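import Mathlib
import Groth.Agent.FlatCxLib.Reduced

/-! Fibre ranks of kernels and images of maps of finite modules, in arbitrary universes. -/

universe u v w

open TensorProduct

namespace Groth.Agent.FibreKer

variable {A : Type u} [CommRing A]

/-- A retraction of the inclusion of a submodule with projective quotient. -/
theorem exists_retraction {F : Type v} [AddCommGroup F] [Module A F] (N : Submodule A F)
    [Module.Projective A (F ⧸ N)] : ∃ r : F →ₗ[A] N, r ∘ₗ N.subtype = LinearMap.id := by
  obtain ⟨s, hs⟩ := Module.projective_lifting_property N.mkQ LinearMap.id N.mkQ_surjective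
  refine ⟨LinearMap.codRestrict N (LinearMap.id - s ∘ₗ N.mkQ) (fun x => ?_), ?_⟩
  · rw [← Submodule.Quotient.mk_eq_zero N]
    show N.mkQ (x - s (N.mkQ x)) = 0
    rw [map_sub, show N.mkQ (s (N.mkQ x)) = N.mkQ x from LinearMap.congr_fun hs _, sub_self]
  · refine LinearMap.ext fun x => Subtype.ext ?_
    show (x : F) - s (N.mkQ (x : F)) = x
    rw [show N.mkQ (x : F) = 0 from (Submodule.Quotient.mk_eq_zero N).2 x.2, map_zero, sub_zero]

theorem projective_sub {F : Type v} [AddCommGroup F] [Module A F] [Module.Projective A F]
    (N : Submodule A F) [Module.Projective A (F ⧸ N)] : Module.Projective A N :=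
  Module.Projective.of_split _ _ (exists_retraction N).choose_spec

theorem injective_baseChange {F : Type v} [AddCommGroup F] [Module A F] (N : Submodule A F)
    [Module.Projective A (F ⧸ N)] (B : Type w) [CommRing B] [Algebra A B] :
    Function.Injective (N.subtype.baseChange B) := by
  obtain ⟨r, hr⟩ := exists_retraction N
  refine Function.LeftInverse.injective (g := r.baseChange B) fun x => ?_
  rw [← LinearMap.comp_apply, ← LinearMap.baseChange_comp, hr, LinearMap.baseChange_id]
  rfl

theorem injective_rTensor {F : Type v} [AddCommGroup F] [Module A F] (N : Submodule A F)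
    [Module.Projective A (F ⧸ N)] (P : Type w) [AddCommGroup P] [Module A P] :
    Function.Injective (N.subtype.rTensor P) := by
  obtain ⟨r, hr⟩ := exists_retraction N
  refine Function.LeftInverse.injective (g := r.rTensor P) fun x => ?_
  rw [← LinearMap.comp_apply, ← LinearMap.rTensor_comp, hr, LinearMap.rTensor_id]
  rfl

section Rank

variable {k : Type w} [Field k] [Algebra A k] {M : Type v} {F : Type v} [AddCommGroup M] [Module A M]
  [AddCommGroup F] [Module A F]

theorem finrank_range_add (f : M →ₗ[A] F) [Module.Finite A F] :
    Module.finrank k (LinearMap.range (f.baseChange k)) +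
      Module.finrank k (k ⊗[A] (F ⧸ LinearMap.range f)) = Module.finrank k (k ⊗[A] F) := by
  let π := (LinearMap.range f).mkQ.baseChange k
  have hπ : Function.Surjective π :=
    LinearMap.lTensor_surjective k (Submodule.mkQ_surjective (LinearMap.range f))
  have hker : LinearMap.ker π = LinearMap.range (f.baseChange k) :=
    Submodule.ext fun x =>
      lTensor_exact k f.exact_map_mkQ_range (Submodule.mkQ_surjective (LinearMap.range f)) x
  have h1 := LinearMap.finrank_range_add_finrank_ker π
  rw [LinearMap.range_eq_top.2 hπ, finrank_top, hker] at h1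
  omega

theorem finrank_ker_add (f : M →ₗ[A] F) [Module.Finite A M] [Module.Finite A F] :
    Module.finrank k (LinearMap.ker (f.baseChange k)) + Module.finrank k (k ⊗[A] F) =
      Module.finrank k (k ⊗[A] M) + Module.finrank k (k ⊗[A] (F ⧸ LinearMap.range f)) := by
  have h1 := LinearMap.finrank_range_add_finrank_ker (f.baseChange k)
  have h2 := finrank_range_add (k := k) f
  omega

end Rank

/-- The dimension of a fibre, without constraint on universes. -/
noncomputable def rk (M : Type v) [AddCommGroup M] [Module A M] (x : PrimeSpectrum A) : ℕ :=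
  Module.finrank x.asIdeal.ResidueField (x.asIdeal.ResidueField ⊗[A] M)

theorem exists_small (M : Type v) [AddCommGroup M] [Module A M] [Module.Finite A M] :
    ∃ (n : ℕ) (K : Submodule A (Fin n → A)), Nonempty (((Fin n → A) ⧸ K) ≃ₗ[A] M) := by
  obtain ⟨n, f, hf⟩ := Module.Finite.exists_fin' A M
  exact ⟨n, LinearMap.ker f, ⟨f.quotKerEquivOfSurjective hf⟩⟩

theorem rk_congr {M : Type v} {M' : Type w} [AddCommGroup M] [Module A M] [AddCommGroup M'] [Module A M']
    (e : M ≃ₗ[A] M') : rk (A := A) M = rk (A := A) M' :=
  funext fun x => (e.baseChange A x.asIdeal.ResidueField).finrank_eq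

theorem upperSemicontinuous_rk (M : Type v) [AddCommGroup M] [Module A M] [Module.Finite A M] :
    UpperSemicontinuous (rk (A := A) M) := by
  obtain ⟨n, K, ⟨e⟩⟩ := exists_small (A := A) M
  rw [← rk_congr e]
  exact FlatCxLib.upperSemicontinuous_fibreRank _

theorem isLocallyConstant_rk (M : Type v) [AddCommGroup M] [Module A M] [Module.Finite A M]
    [Module.Projective A M] : IsLocallyConstant (rk (A := A) M) := by
  have := Module.finitePresentation_of_projective A M
  have e : rk (A := A) M = Module.rankAtStalk M :=
    funext fun x => Ideal.finrank_fiber_eq_rankAtStalk x.asIdeal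
  rw [e]
  exact Module.isLocallyConstant_rankAtStalk

theorem projective_of_isLocallyConstant_rk [IsReduced A] [IsNoetherianRing A] (M : Type v)
    [AddCommGroup M] [Module A M] [Module.Finite A M] (h : IsLocallyConstant (rk (A := A) M)) :
    Module.Projective A M := by
  obtain ⟨n, K, ⟨e⟩⟩ := exists_small (A := A) M
  rw [← rk_congr e] at h
  have := FlatCxLib.flat_of_isLocallyConstant_fibreRank _ h
  have := Module.finitePresentation_of_finite A ((Fin n → A) ⧸ K)
  have : Module.Projective A ((Fin n → A) ⧸ K) := Module.Flat.projective_of_finitePresentation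
  exact Module.Projective.of_equiv e

/-- Two upper semicontinuous functions with locally constant sum are locally constant. -/
theorem isLocallyConstant_of_add {X : Type*} [TopologicalSpace X] {f g : X → ℕ}
    (hf : UpperSemicontinuous f) (hg : UpperSemicontinuous g)
    (h : IsLocallyConstant (fun x => f x + g x)) : IsLocallyConstant f ∧ IsLocallyConstant g := by
  simp only [IsLocallyConstant.iff_eventually_eq] at h ⊢
  refine ⟨fun x => ?_, fun x => ?_⟩ <;>
  · filter_upwards [h x, hf x (f x + 1) (Nat.lt_succ_self _), hg x (g x + 1) (Nat.lt_succ_self _)]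
      with y h1 h2 h3
    omega

theorem lowerSemicontinuous_of_add {X : Type*} [TopologicalSpace X] {f g : X → ℕ}
    (hg : UpperSemicontinuous g) (h : IsLocallyConstant (fun x => f x + g x)) :
    LowerSemicontinuous f := by
  intro x n hn
  filter_upwards [(IsLocallyConstant.iff_eventually_eq _).1 h x, hg x (g x + 1) (Nat.lt_succ_self _)]
    with y h1 h2
  omega

end Groth.Agent.FibreKer
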